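import Groth.Agent.Lib.Index22.Complement
import Groth.Agent.Lib.AlgEquiv22.NonDeg
import Groth.Agent.Lib.RR22.Mumford
import Groth.Agent.Lib.RRKL13.Descent
import Groth.Agent.Lib.KLFin22.Main
import Groth.Agent.Lib.MumVan22.IsogEuler
import Groth.Agent.Lib.MumVan22.Kernel
import Groth.Agent.S7790
import Groth.Agent.S16586

/-!
# Classes and endomorphisms on an abelian variety over an algebraically closed field
-/

universe u

open CategoryTheory Limits MonoidalCategory CartesianMonoidalCategory AlgebraicGeometry TopologicalSpace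
open scoped MonObj GrpObj

set_option linter.style.haveILetI false
set_option linter.unusedSectionVars false
set_option maxHeartbeats 1000000
set_option synthInstance.maxHeartbeats 400000
set_option backward.isDefEq.respectTransparency false

noncomputable section

namespace Groth.Agent.NS22

open Groth.Agent.AlgEquiv22 Groth.Agent.MumVan22 Groth.Agent.Index22

noncomputable local instance instLawNSE (Y : Scheme.{u}) : PicGrp.Law Y := M2.law Y

variable {k : Type u} [Field k]

theorem bil_cls_mul {A V : Over (Spec (CommRingCat.of k))} [GrpObj A] (c d : PicLoc.PicSet A.left) (f g : V ⟶ A) :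
    bil (c * d) f g = bil c f g * bil d f g := by
  simp only [bil, map_mul, mul_inv_rev]
  ac_rfl

theorem bil_pb {B C : Over (Spec (CommRingCat.of k))} [GrpObj B] [GrpObj C] (f : B ⟶ C) [IsMonHom f]
    (e : PicLoc.PicSet C.left) {W : Over (Spec (CommRingCat.of k))} (x y : W ⟶ B) :
    bil (pb f e) x y = bil e (x ≫ f) (y ≫ f) := by
  simp only [bil, pb_pb, MonObj.mul_comp]

theorem pb_bil' {A U V : Over (Spec (CommRingCat.of k))} [GrpObj A] (s : U ⟶ V) (c : PicLoc.PicSet A.left)
    (f g : V ⟶ A) : pb s (bil c f g) = bil c (s ≫ f) (s ≫ g) := by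
  simp only [bil, map_mul, map_inv, pb_pb, MonObj.comp_mul]

theorem smooth_hom (X : Over (Spec (CommRingCat.of k))) [GrpObj X] [IsProper X.hom] [GeometricallyIntegral X.hom] :
    Smooth X.hom :=
  @smooth_of_grpObj k _ _ X.hom _ (show GrpObj (Over.mk X.hom) from ‹GrpObj X›) _

theorem geometricallyConnected_hom (X : Over (Spec (CommRingCat.of k))) [GeometricallyIntegral X.hom] :
    GeometricallyConnected X.hom :=
  ⟨fun Ω _ y X' fst snd h => by
    haveI := GeometricallyIntegral.geometrically_isIntegral (f := X.hom) y fst snd h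
    infer_instance⟩

variable [IsAlgClosed k] {A : Over (Spec (CommRingCat.of k))} [GrpObj A] [IsProper A.hom]
  [GeometricallyIntegral A.hom]

theorem bil_zpow_right (c : PicLoc.PicSet A.left) {V : Over (Spec (CommRingCat.of k))} (f g : V ⟶ A) (a : ℤ) :
    bil c f (g ^ a) = bil c f g ^ a := by
  rw [bil_comm, bil_zpow_left, bil_comm]

theorem bil_pow_right (c : PicLoc.PicSet A.left) {V : Over (Spec (CommRingCat.of k))} (f g : V ⟶ A) (n : ℕ) :
    bil c f (g ^ n) = bil c f g ^ n := by
  rw [← zpow_natCast, bil_zpow_right, zpow_natCast]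

/-- A bilinear class vanishing on all point slices. -/
theorem eq_one_of_slices {T : Over (Spec (CommRingCat.of k))} [IsProper T.hom] [GeometricallyIntegral T.hom]
    (D : PicLoc.PicSet (A ⊗ T).left)
    (h : ∀ t : 𝟙_ (Over (Spec (CommRingCat.of k))) ⟶ T, pb (lift (𝟙 A) (toUnit A ≫ t)) D = 1)
    (h₀ : pb (lift (1 : T ⟶ A) (𝟙 T)) D = 1) : D = 1 := by
  obtain ⟨N, hN, rfl⟩ := PicGrp.exists_eq_cls D
  refine (PicGrp.cls_eq_one_iff _).2 ?_
  refine CubeField.isTriv_of_point_slices (1 : 𝟙_ _ ⟶ A) CubeField.finH1 N hN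
    (fun t => (isTriv_iff _ hN).2 (h t)) ((isTriv_iff _ hN).2 ?_)
  rw [MonObj.comp_one]
  exact h₀

variable [IsCommMonObj A]

/-- Pairings with values killed by a positive exponent are trivial. -/
theorem bil_eq_one_of_pow (e : PicLoc.PicSet A.left) {m : ℕ} (hm : 0 < m)
    (h : bil e (fst A A) (snd A A) ^ m = 1) : bil e (fst A A) (snd A A) = 1 := by
  haveI := smooth_hom A; haveI := geometricallyConnected_hom A
  haveI := AbRigid.geometricallyReduced_of_smooth A.hom
  refine eq_one_of_slices _ (fun t => ?_) ?_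
  · obtain ⟨-, -, hs⟩ := Isogeny14.isFinite_flat_surjective_pow A m hm
    haveI := hs
    obtain ⟨t', rfl⟩ := MumVan22.exists_lift_of_surjective (𝟙 A ^ m) t
    have h1 := congrArg (pb (lift (𝟙 A) (toUnit A ≫ t'))) h
    rw [map_pow, map_one, pb_bil', lift_fst, lift_snd] at h1
    rw [pb_bil', lift_fst, lift_snd, MonObj.comp_pow, MonObj.comp_pow, Category.comp_id, bil_pow_right, h1]
  · rw [pb_bil', lift_fst, bil_one_left]

/-- An exponent killing the kernel of the polarisation. -/
theorem exists_exp {L : A.left.Modules} (hL : CohB1.IsAmple L) :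
    ∃ n : ℕ, 0 < n ∧ ∀ ⦃W : Over (Spec (CommRingCat.of k))⦄ (v : W ⟶ A),
      bil (PicGrp.cls L hL.1) (fst A W) (snd A W ≫ v) = 1 → v ^ n = 1 := by
  haveI := smooth_hom A; haveI := geometricallyConnected_hom A
  haveI := AbRigid.geometricallyReduced_of_smooth A.hom
  haveI : IsIntegral A.left := GeometricallyIntegral.isIntegral_of_subsingleton A.hom
  have hLr : RelAmple.IsRelAmple A.hom L := (RA.isRelAmple_iff_isAmple A.hom).2 hL
  obtain ⟨K, i, hK⟩ := Seesaw13.exists_isKL (A := A) hL.1
  haveI : IsFinite K.hom := KLFin22.isFinite_KL L hLr K i hK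
  obtain ⟨gK, Q, gQ, q, P, hP, hgi, hqm, hQp, hQg, hqf, hqfl, hqs, hker, -, -⟩ := RRKL13.exists_pLike hL.1 hK
  haveI := hgi; haveI := hqm; haveI := hQp; haveI := hQg; haveI := hqf; haveI := hqfl; haveI := hqs
  haveI := smooth_hom Q; haveI := geometricallyConnected_hom Q
  haveI := AbRigid.geometricallyReduced_of_smooth Q.hom
  obtain ⟨d, hd, -, -⟩ := IsogEuler22.exists_free q
  have hd0 : 0 < d := hd (q.left (genericPoint A.left)) ▸ Scheme.Hom.one_le_finrank_map q.left _
  obtain ⟨⟨ψ, ⟨hψm, hψ⟩, -⟩, -⟩ := Groth.Agent.S7790.result A Q q d hd0 fun s => hd _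
  haveI := hψm
  refine ⟨d, hd0, fun W v hv => ?_⟩
  obtain ⟨y, rfl⟩ := (hK.univ W v).1 ((CubeField.isMumfordTriv_iff hL.1 v).2 (by
    rw [RRKL13.P_eq hL.1, RRKL13.P_eq hL.1, RRKL13.P_eq hL.1]
    exact mul_inv_eq_one.1 hv))
  rw [show (y ≫ i) ^ d = (y ≫ i) ≫ (𝟙 A ^ d) by rw [MonObj.comp_pow, Category.comp_id], ← hψ, Category.assoc,
    ← Category.assoc i, hker.w, ← Hom.one_def, MonObj.one_comp, MonObj.comp_one]

/-- An endomorphism is determined by its pairing. -/
theorem eq_zero_of_bil {L : A.left.Modules} (hL : CohB1.IsAmple L) {a : EndAV.End A}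
    (h : bil (PicGrp.cls L hL.1) (fst A A) (snd A A ≫ a.toHom) = 1) : a = 0 := by
  obtain ⟨n, hn, hkill⟩ := exists_exp hL
  obtain ⟨g, hg⟩ := Index22.exists_dim (A := A)
  obtain ⟨hfree, -, -⟩ := Groth.Agent.S16586.result k A A g g hg hg
  haveI : Module.Free ℤ (EndAV.Hom A A) := hfree
  haveI : Module.Free ℤ (EndAV.End A) := hfree
  have h1 : n • a = 0 := EndAV.End.ext (by
    rw [EndAV.End.toHom_nsmul, EndAV.End.toHom_zero]
    exact hkill a.toHom h)
  have h2 : (n : ℤ) • a = 0 := by rw [natCast_zsmul]; exact h1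
  exact Module.Free.chooseBasis ℤ (EndAV.End A) |>.repr.injective (by
    ext b
    have h3 := congrArg (fun v => (Module.Free.chooseBasis ℤ (EndAV.End A)).repr v b) h2
    simp only [map_smul, map_zero, Finsupp.smul_apply, Finsupp.zero_apply, smul_eq_mul, mul_eq_zero] at h3
    simp [h3.resolve_left (by exact_mod_cast hn.ne')])

/-- Every class gives an endomorphism through an ample class. -/
theorem exists_endo {L : A.left.Modules} (hL : CohB1.IsAmple L) :
    ∃ n : ℕ, 0 < n ∧ ∀ e : PicLoc.PicSet A.left, ∃ a : EndAV.End A,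
      bil (PicGrp.cls L hL.1) (fst A A) (snd A A ≫ a.toHom) = bil e (fst A A) (snd A A) ^ n := by
  classical
  obtain ⟨n, hn, hkill⟩ := exists_exp hL
  refine ⟨n, hn, fun e => ?_⟩
  set c := PicGrp.cls L hL.1 with hc
  haveI := smooth_hom A
  let i : A ⟶ A ⊗ A := lift 1 (𝟙 A)
  haveI : IsMonHom i := TorsorSch25.isMonHom_of_points i fun T a b => by
    simp only [i, comp_lift, MonObj.comp_one, Category.comp_id]
    apply CartesianMonoidalCategory.hom_ext <;> simp [MonObj.mul_comp]
  let m : PicLoc.PicSet (A ⊗ A).left := bil e (fst A A) (snd A A)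
  let c' : PicLoc.PicSet (A ⊗ A).left := pb (snd A A) c * m
  have hic : pb i c' = c := by
    simp only [c', m, i, map_mul, pb_pb, lift_snd, pb_id, pb_bil', lift_fst, bil_one_left, _root_.mul_one]
  obtain ⟨C, gC, pC, iC, j, hj, hcj, hσm, hσf, hσl, hσs, hbox⟩ :=
    Index22.exists_complement i c' (by rw [hic]; exact AlgEquiv22.finite_fixing hL)
  haveI := hj; haveI := hcj
  haveI := smooth_hom C
  haveI : IsCommMonObj C := isCommMonObj_of_isProper_of_geometricallyIntegral C
  haveI : IsCommMonObj (A ⊗ A) := isCommMonObj_of_isProper_of_geometricallyIntegral _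
  -- the complement is orthogonal to the second factor
  have cross : ∀ ⦃W : Over (Spec (CommRingCat.of k))⦄ (b : W ⟶ A) (z : W ⟶ C),
      bil c b (z ≫ j ≫ snd A A) * bil e (z ≫ j ≫ fst A A) b = 1 := fun W b z => by
    have h1 := congrArg (pb (lift b z)) hbox
    simp only [boxC, map_mul, pb_pb, MonObj.comp_mul, lift_fst_assoc, lift_snd_assoc, lift_fst, lift_snd] at h1
    have h2 : bil c' (b ≫ i) (z ≫ j) = 1 := by
      rw [bil, mul_inv_eq_one]
      exact h1
    simp only [c', m, bil_cls_mul, bil_pb] at h2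
    have h3 : bil (bil e (fst A A) (snd A A)) (b ≫ i) (z ≫ j) = bil e (z ≫ j ≫ fst A A) b := by
      show pb _ _ * (pb _ _ * pb _ _)⁻¹ = _
      simp only [pb_bil', MonObj.mul_comp, i, Category.assoc, lift_fst, lift_snd, MonObj.comp_one, Category.comp_id,
        _root_.one_mul, bil_one_left]
      rw [bil_comm e (z ≫ j ≫ fst A A) (b * z ≫ j ≫ snd A A), bil_mul_left, bil_comm e b, bil_comm e (z ≫ j ≫ snd A A),
        mul_inv_cancel_right]
    rw [h3] at h2
    simpa only [Category.assoc, i, lift_snd, Category.comp_id] using h2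
  let p : C ⟶ A := j ≫ fst A A
  haveI : IsMonHom p := inferInstance
  have hp1 : ((fst A C ≫ i) * (snd A C ≫ j)) ≫ fst A A = snd A C ≫ p := by
    rw [MonObj.mul_comp, Category.assoc, Category.assoc, lift_fst, MonObj.comp_one, _root_.one_mul]
  haveI : Surjective (fst A A).left := ⟨fun z => ⟨(lift (𝟙 A) (1 : A ⟶ A)).left z, by
    rw [← Scheme.Hom.comp_apply, ← Over.comp_left, lift_fst]; rfl⟩⟩
  haveI hps : Surjective p.left := by
    haveI := hσs
    haveI : Surjective ((snd A C).left ≫ p.left) := by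
      rw [← Over.comp_left, ← hp1, Over.comp_left]; infer_instance
    exact Surjective.of_comp (snd A C).left p.left
  haveI : Mono j := (Over.forget _).mono_of_mono_map (f := j) (show Mono j.left from inferInstance)
  haveI hpf : IsFinite p.left := by
    refine Index22.isFinite_of_finite_points p fun b => ?_
    rcases Set.eq_empty_or_nonempty {z | z ≫ p = b} with he | ⟨z₀, hz₀⟩
    · rw [he]; exact Set.finite_empty
    refine Set.Finite.of_finite_image (f := fun z => (z * z₀⁻¹) ≫ j ≫ snd A A)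
      ((AlgEquiv22.finite_fixing hL).subset ?_) fun z hz w hw hzw => mul_right_cancel (b := z₀⁻¹) ((cancel_mono j).1 ?_)
    · rintro _ ⟨z, hz, rfl⟩
      show pb _ _ = _
      rw [pb_mul, pb_id, pb_const, _root_.mul_one, mul_eq_left]
      have h1 := cross (W := A) (𝟙 A) (toUnit A ≫ (z * z₀⁻¹))
      rw [Category.assoc, Category.assoc,
        show (z * z₀⁻¹) ≫ j ≫ fst A A = 1 by
          rw [MonObj.mul_comp, GrpObj.inv_comp, show z ≫ j ≫ fst A A = b from hz,
            show z₀ ≫ j ≫ fst A A = b from hz₀, mul_inv_cancel],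
        MonObj.comp_one, bil_one_left, _root_.mul_one] at h1
      exact h1
    · apply CartesianMonoidalCategory.hom_ext
      · rw [Category.assoc, Category.assoc, MonObj.mul_comp, MonObj.mul_comp, show z ≫ j ≫ fst A A = b from hz,
          show w ≫ j ≫ fst A A = b from hw]
      · rw [Category.assoc, Category.assoc]; exact hzw
  haveI : IsIntegral C.left := GeometricallyIntegral.isIntegral_of_subsingleton C.hom
  haveI : IsIntegral A.left := GeometricallyIntegral.isIntegral_of_subsingleton A.hom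
  haveI : Flat p.left := AbRigid.flat_of_surjective C A p
  haveI : IsMonHom (snd A A) := inferInstance
  obtain ⟨g, hg, -⟩ := AbRigid.descend_of_flat p ((j ≫ snd A A) ^ n) fun W a a' haa => by
    have h1 : ((a * a'⁻¹) ≫ j ≫ snd A A) ^ n = 1 := hkill _ (by
      have h2 := cross (fst A W) (snd A W ≫ (a * a'⁻¹))
      rw [Category.assoc, Category.assoc, show (a * a'⁻¹) ≫ j ≫ fst A A = 1 by
        rw [MonObj.mul_comp, GrpObj.inv_comp, show a ≫ j ≫ fst A A = a' ≫ j ≫ fst A A from haa, mul_inv_cancel],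
        MonObj.comp_one, bil_one_left, _root_.mul_one] at h2
      exact h2)
    rw [MonObj.comp_pow, MonObj.comp_pow]
    rw [MonObj.mul_comp, GrpObj.inv_comp, _root_.mul_pow, inv_pow, mul_inv_eq_one] at h1
    exact h1
  haveI : IsMonHom g := RatMapAV.isMonHom_of_smooth A A g (by
    rw [← IsMonHom.one_hom p, Category.assoc, ← hg, MonObj.comp_pow, IsMonHom.one_hom (j ≫ snd A A),
      show η[A] = (1 : 𝟙_ _ ⟶ A) by rw [Hom.one_def, toUnit_unique (toUnit _) (𝟙 _), Category.id_comp], one_pow,
      show η[C] = (1 : 𝟙_ _ ⟶ C) by rw [Hom.one_def, toUnit_unique (toUnit _) (𝟙 _), Category.id_comp],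
      MonObj.one_comp])
  refine ⟨-EndAV.End.of g, ?_⟩
  rw [EndAV.End.toHom_neg, EndAV.End.toHom_of, GrpObj.comp_inv, ← zpow_neg_one, bil_zpow_right, zpow_neg_one,
    inv_eq_iff_eq_inv, ← mul_eq_one_iff_eq_inv]
  refine eq_one_of_slices _ (fun t => ?_) ?_
  · obtain ⟨z, rfl⟩ := MumVan22.exists_lift_of_surjective p t
    rw [map_mul, map_pow, pb_bil', pb_bil', lift_snd_assoc, lift_fst, lift_snd,
      show (toUnit A ≫ z ≫ p) ≫ g = toUnit A ≫ z ≫ (j ≫ snd A A) ^ n by rw [hg, Category.assoc, Category.assoc],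
      MonObj.comp_pow, MonObj.comp_pow, bil_pow_right, bil_comm e, ← mul_pow,
      ← Category.assoc (toUnit A) z, ← Category.assoc (toUnit A) z, cross, one_pow]
  · rw [map_mul, map_pow, pb_bil', pb_bil', lift_fst, bil_one_left, bil_one_left, one_pow, _root_.mul_one]

end Groth.Agent.NS22

end
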